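import Cfsg.Agent.SporB.ON.Rep.Defs

set_option autoImplicit false
set_option maxRecDepth 100000

namespace Cfsg.Agent.CosetEnum.ON.Rep

theorem checkOrbs_30 : allRange checkOrb 30720 1024 = true := by decide +kernel

theorem checkOrbs_31 : allRange checkOrb 31744 1024 = true := by decide +kernel

theorem checkOrbs_32 : allRange checkOrb 32768 1024 = true := by decide +kernel

theorem checkOrbs_33 : allRange checkOrb 33792 1024 = true := by decide +kernel

theorem checkOrbs_34 : allRange checkOrb 34816 1024 = true := by decide +kernel

theorem checkOrbs_35 : allRange checkOrb 35840 1024 = true := by decide +kernel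

theorem checkOrbs_36 : allRange checkOrb 36864 1024 = true := by decide +kernel

theorem checkOrbs_37 : allRange checkOrb 37888 1024 = true := by decide +kernel

theorem checkOrbs_38 : allRange checkOrb 38912 1024 = true := by decide +kernel

theorem checkOrbs_39 : allRange checkOrb 39936 1024 = true := by decide +kernel

theorem checkOrbs_40 : allRange checkOrb 40960 1024 = true := by decide +kernel

theorem checkOrbs_41 : allRange checkOrb 41984 1024 = true := by decide +kernel

theorem checkOrbs_42 : allRange checkOrb 43008 1024 = true := by decide +kernel

theorem checkOrbs_43 : allRange checkOrb 44032 1024 = true := by decide +kernel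

theorem checkOrbs_44 : allRange checkOrb 45056 1024 = true := by decide +kernel

theorem checkOrbs_45 : allRange checkOrb 46080 1024 = true := by decide +kernel

theorem checkOrbs_46 : allRange checkOrb 47104 1024 = true := by decide +kernel

theorem checkOrbs_47 : allRange checkOrb 48128 1024 = true := by decide +kernel

theorem checkOrbs_48 : allRange checkOrb 49152 1024 = true := by decide +kernel

theorem checkOrbs_49 : allRange checkOrb 50176 1024 = true := by decide +kernel

theorem checkOrbs_50 : allRange checkOrb 51200 1024 = true := by decide +kernel

theorem checkOrbs_51 : allRange checkOrb 52224 1024 = true := by decide +kernel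

theorem checkOrbs_52 : allRange checkOrb 53248 1024 = true := by decide +kernel

theorem checkOrbs_53 : allRange checkOrb 54272 1024 = true := by decide +kernel

theorem checkOrbs_54 : allRange checkOrb 55296 1024 = true := by decide +kernel

theorem checkOrbs_55 : allRange checkOrb 56320 1024 = true := by decide +kernel

theorem checkOrbs_56 : allRange checkOrb 57344 1024 = true := by decide +kernel

theorem checkOrbs_57 : allRange checkOrb 58368 1024 = true := by decide +kernel

theorem checkOrbs_58 : allRange checkOrb 59392 1024 = true := by decide +kernel

theorem checkOrbs_59 : allRange checkOrb 60416 1024 = true := by decide +kernel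

end Cfsg.Agent.CosetEnum.ON.Rep
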