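import Cfsg.Agent.SporB.ON.Rep.Defs

set_option autoImplicit false
set_option maxRecDepth 100000

namespace Cfsg.Agent.CosetEnum.ON.Rep

theorem checkOrbs_60 : allRange checkOrb 61440 1024 = true := by decide +kernel

theorem checkOrbs_61 : allRange checkOrb 62464 1024 = true := by decide +kernel

theorem checkOrbs_62 : allRange checkOrb 63488 1024 = true := by decide +kernel

theorem checkOrbs_63 : allRange checkOrb 64512 1024 = true := by decide +kernel

theorem checkOrbs_64 : allRange checkOrb 65536 1024 = true := by decide +kernel

theorem checkOrbs_65 : allRange checkOrb 66560 1024 = true := by decide +kernel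

theorem checkOrbs_66 : allRange checkOrb 67584 1024 = true := by decide +kernel

theorem checkOrbs_67 : allRange checkOrb 68608 1024 = true := by decide +kernel

theorem checkOrbs_68 : allRange checkOrb 69632 1024 = true := by decide +kernel

theorem checkOrbs_69 : allRange checkOrb 70656 1024 = true := by decide +kernel

theorem checkOrbs_70 : allRange checkOrb 71680 1024 = true := by decide +kernel

theorem checkOrbs_71 : allRange checkOrb 72704 1024 = true := by decide +kernel

theorem checkOrbs_72 : allRange checkOrb 73728 1024 = true := by decide +kernel

theorem checkOrbs_73 : allRange checkOrb 74752 1024 = true := by decide +kernel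

theorem checkOrbs_74 : allRange checkOrb 75776 1024 = true := by decide +kernel

theorem checkOrbs_75 : allRange checkOrb 76800 1024 = true := by decide +kernel

theorem checkOrbs_76 : allRange checkOrb 77824 1024 = true := by decide +kernel

theorem checkOrbs_77 : allRange checkOrb 78848 1024 = true := by decide +kernel

theorem checkOrbs_78 : allRange checkOrb 79872 1024 = true := by decide +kernel

theorem checkOrbs_79 : allRange checkOrb 80896 1024 = true := by decide +kernel

theorem checkOrbs_80 : allRange checkOrb 81920 1024 = true := by decide +kernel

theorem checkOrbs_81 : allRange checkOrb 82944 1024 = true := by decide +kernel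

theorem checkOrbs_82 : allRange checkOrb 83968 1024 = true := by decide +kernel

theorem checkOrbs_83 : allRange checkOrb 84992 1024 = true := by decide +kernel

theorem checkOrbs_84 : allRange checkOrb 86016 1024 = true := by decide +kernel

theorem checkOrbs_85 : allRange checkOrb 87040 1024 = true := by decide +kernel

theorem checkOrbs_86 : allRange checkOrb 88064 1024 = true := by decide +kernel

theorem checkOrbs_87 : allRange checkOrb 89088 1024 = true := by decide +kernel

theorem checkOrbs_88 : allRange checkOrb 90112 1024 = true := by decide +kernel

theorem checkOrbs_89 : allRange checkOrb 91136 1024 = true := by decide +kernel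

end Cfsg.Agent.CosetEnum.ON.Rep
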