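import Cfsg.Agent.SporB.ON.Rep.Defs

set_option autoImplicit false
set_option maxRecDepth 100000

namespace Cfsg.Agent.CosetEnum.ON.Rep

theorem checkOrbs_90 : allRange checkOrb 92160 1024 = true := by decide +kernel

theorem checkOrbs_91 : allRange checkOrb 93184 1024 = true := by decide +kernel

theorem checkOrbs_92 : allRange checkOrb 94208 1024 = true := by decide +kernel

theorem checkOrbs_93 : allRange checkOrb 95232 1024 = true := by decide +kernel

theorem checkOrbs_94 : allRange checkOrb 96256 1024 = true := by decide +kernel

theorem checkOrbs_95 : allRange checkOrb 97280 1024 = true := by decide +kernel

theorem checkOrbs_96 : allRange checkOrb 98304 1024 = true := by decide +kernel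

theorem checkOrbs_97 : allRange checkOrb 99328 1024 = true := by decide +kernel

theorem checkOrbs_98 : allRange checkOrb 100352 1024 = true := by decide +kernel

theorem checkOrbs_99 : allRange checkOrb 101376 1024 = true := by decide +kernel

theorem checkOrbs_100 : allRange checkOrb 102400 1024 = true := by decide +kernel

theorem checkOrbs_101 : allRange checkOrb 103424 1024 = true := by decide +kernel

theorem checkOrbs_102 : allRange checkOrb 104448 1024 = true := by decide +kernel

theorem checkOrbs_103 : allRange checkOrb 105472 1024 = true := by decide +kernel

theorem checkOrbs_104 : allRange checkOrb 106496 1024 = true := by decide +kernel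

theorem checkOrbs_105 : allRange checkOrb 107520 1024 = true := by decide +kernel

theorem checkOrbs_106 : allRange checkOrb 108544 1024 = true := by decide +kernel

theorem checkOrbs_107 : allRange checkOrb 109568 1024 = true := by decide +kernel

theorem checkOrbs_108 : allRange checkOrb 110592 1024 = true := by decide +kernel

theorem checkOrbs_109 : allRange checkOrb 111616 1024 = true := by decide +kernel

theorem checkOrbs_110 : allRange checkOrb 112640 1024 = true := by decide +kernel

theorem checkOrbs_111 : allRange checkOrb 113664 1024 = true := by decide +kernel

theorem checkOrbs_112 : allRange checkOrb 114688 1024 = true := by decide +kernel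

theorem checkOrbs_113 : allRange checkOrb 115712 1024 = true := by decide +kernel

theorem checkOrbs_114 : allRange checkOrb 116736 1024 = true := by decide +kernel

theorem checkOrbs_115 : allRange checkOrb 117760 1024 = true := by decide +kernel

theorem checkOrbs_116 : allRange checkOrb 118784 1024 = true := by decide +kernel

theorem checkOrbs_117 : allRange checkOrb 119808 1024 = true := by decide +kernel

theorem checkOrbs_118 : allRange checkOrb 120832 1024 = true := by decide +kernel

theorem checkOrbs_119 : allRange checkOrb 121856 904 = true := by decide +kernel

end Cfsg.Agent.CosetEnum.ON.Rep
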