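import Cfsg.Agent.SporB.ON.Rep.CheckOrbs0
import Cfsg.Agent.SporB.ON.Rep.CheckOrbs1
import Cfsg.Agent.SporB.ON.Rep.CheckOrbs2
import Cfsg.Agent.SporB.ON.Rep.CheckOrbs3

set_option autoImplicit false

namespace Cfsg.Agent.CosetEnum.ON.Rep

theorem checkOrbs : ∀ i < 122760, checkOrb i = true := by
  intro i hi
  rcases Nat.lt_or_ge i 61440 with h | h
  ·
    rcases Nat.lt_or_ge i 30720 with h | h
    ·
      rcases Nat.lt_or_ge i 15360 with h | h
      ·
        rcases Nat.lt_or_ge i 7168 with h | h
        ·
          rcases Nat.lt_or_ge i 3072 with h | h
          ·
            rcases Nat.lt_or_ge i 1024 with h | h
            ·
              exact allRange_spec checkOrbs_0 i (by omega) (by omega)
            ·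
              rcases Nat.lt_or_ge i 2048 with h | h
              ·
                exact allRange_spec checkOrbs_1 i (by omega) (by omega)
              ·
                exact allRange_spec checkOrbs_2 i (by omega) (by omega)
          ·
            rcases Nat.lt_or_ge i 5120 with h | h
            ·
              rcases Nat.lt_or_ge i 4096 with h | h
              ·
                exact allRange_spec checkOrbs_3 i (by omega) (by omega)
              ·
                exact allRange_spec checkOrbs_4 i (by omega) (by omega)
            ·
              rcases Nat.lt_or_ge i 6144 with h | h
              ·
                exact allRange_spec checkOrbs_5 i (by omega) (by omega)
              ·
                exact allRange_spec checkOrbs_6 i (by omega) (by omega)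
        ·
          rcases Nat.lt_or_ge i 11264 with h | h
          ·
            rcases Nat.lt_or_ge i 9216 with h | h
            ·
              rcases Nat.lt_or_ge i 8192 with h | h
              ·
                exact allRange_spec checkOrbs_7 i (by omega) (by omega)
              ·
                exact allRange_spec checkOrbs_8 i (by omega) (by omega)
            ·
              rcases Nat.lt_or_ge i 10240 with h | h
              ·
                exact allRange_spec checkOrbs_9 i (by omega) (by omega)
              ·
                exact allRange_spec checkOrbs_10 i (by omega) (by omega)
          ·
            rcases Nat.lt_or_ge i 13312 with h | h
            ·
              rcases Nat.lt_or_ge i 12288 with h | h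
              ·
                exact allRange_spec checkOrbs_11 i (by omega) (by omega)
              ·
                exact allRange_spec checkOrbs_12 i (by omega) (by omega)
            ·
              rcases Nat.lt_or_ge i 14336 with h | h
              ·
                exact allRange_spec checkOrbs_13 i (by omega) (by omega)
              ·
                exact allRange_spec checkOrbs_14 i (by omega) (by omega)
      ·
        rcases Nat.lt_or_ge i 22528 with h | h
        ·
          rcases Nat.lt_or_ge i 18432 with h | h
          ·
            rcases Nat.lt_or_ge i 16384 with h | h
            ·
              exact allRange_spec checkOrbs_15 i (by omega) (by omega)
            ·
              rcases Nat.lt_or_ge i 17408 with h | h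
              ·
                exact allRange_spec checkOrbs_16 i (by omega) (by omega)
              ·
                exact allRange_spec checkOrbs_17 i (by omega) (by omega)
          ·
            rcases Nat.lt_or_ge i 20480 with h | h
            ·
              rcases Nat.lt_or_ge i 19456 with h | h
              ·
                exact allRange_spec checkOrbs_18 i (by omega) (by omega)
              ·
                exact allRange_spec checkOrbs_19 i (by omega) (by omega)
            ·
              rcases Nat.lt_or_ge i 21504 with h | h
              ·
                exact allRange_spec checkOrbs_20 i (by omega) (by omega)
              ·
                exact allRange_spec checkOrbs_21 i (by omega) (by omega)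
        ·
          rcases Nat.lt_or_ge i 26624 with h | h
          ·
            rcases Nat.lt_or_ge i 24576 with h | h
            ·
              rcases Nat.lt_or_ge i 23552 with h | h
              ·
                exact allRange_spec checkOrbs_22 i (by omega) (by omega)
              ·
                exact allRange_spec checkOrbs_23 i (by omega) (by omega)
            ·
              rcases Nat.lt_or_ge i 25600 with h | h
              ·
                exact allRange_spec checkOrbs_24 i (by omega) (by omega)
              ·
                exact allRange_spec checkOrbs_25 i (by omega) (by omega)
          ·
            rcases Nat.lt_or_ge i 28672 with h | h
            ·
              rcases Nat.lt_or_ge i 27648 with h | h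
              ·
                exact allRange_spec checkOrbs_26 i (by omega) (by omega)
              ·
                exact allRange_spec checkOrbs_27 i (by omega) (by omega)
            ·
              rcases Nat.lt_or_ge i 29696 with h | h
              ·
                exact allRange_spec checkOrbs_28 i (by omega) (by omega)
              ·
                exact allRange_spec checkOrbs_29 i (by omega) (by omega)
    ·
      rcases Nat.lt_or_ge i 46080 with h | h
      ·
        rcases Nat.lt_or_ge i 37888 with h | h
        ·
          rcases Nat.lt_or_ge i 33792 with h | h
          ·
            rcases Nat.lt_or_ge i 31744 with h | h
            ·
              exact allRange_spec checkOrbs_30 i (by omega) (by omega)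
            ·
              rcases Nat.lt_or_ge i 32768 with h | h
              ·
                exact allRange_spec checkOrbs_31 i (by omega) (by omega)
              ·
                exact allRange_spec checkOrbs_32 i (by omega) (by omega)
          ·
            rcases Nat.lt_or_ge i 35840 with h | h
            ·
              rcases Nat.lt_or_ge i 34816 with h | h
              ·
                exact allRange_spec checkOrbs_33 i (by omega) (by omega)
              ·
                exact allRange_spec checkOrbs_34 i (by omega) (by omega)
            ·
              rcases Nat.lt_or_ge i 36864 with h | h
              ·
                exact allRange_spec checkOrbs_35 i (by omega) (by omega)
              ·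
                exact allRange_spec checkOrbs_36 i (by omega) (by omega)
        ·
          rcases Nat.lt_or_ge i 41984 with h | h
          ·
            rcases Nat.lt_or_ge i 39936 with h | h
            ·
              rcases Nat.lt_or_ge i 38912 with h | h
              ·
                exact allRange_spec checkOrbs_37 i (by omega) (by omega)
              ·
                exact allRange_spec checkOrbs_38 i (by omega) (by omega)
            ·
              rcases Nat.lt_or_ge i 40960 with h | h
              ·
                exact allRange_spec checkOrbs_39 i (by omega) (by omega)
              ·
                exact allRange_spec checkOrbs_40 i (by omega) (by omega)
          ·
            rcases Nat.lt_or_ge i 44032 with h | h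
            ·
              rcases Nat.lt_or_ge i 43008 with h | h
              ·
                exact allRange_spec checkOrbs_41 i (by omega) (by omega)
              ·
                exact allRange_spec checkOrbs_42 i (by omega) (by omega)
            ·
              rcases Nat.lt_or_ge i 45056 with h | h
              ·
                exact allRange_spec checkOrbs_43 i (by omega) (by omega)
              ·
                exact allRange_spec checkOrbs_44 i (by omega) (by omega)
      ·
        rcases Nat.lt_or_ge i 53248 with h | h
        ·
          rcases Nat.lt_or_ge i 49152 with h | h
          ·
            rcases Nat.lt_or_ge i 47104 with h | h
            ·
              exact allRange_spec checkOrbs_45 i (by omega) (by omega)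
            ·
              rcases Nat.lt_or_ge i 48128 with h | h
              ·
                exact allRange_spec checkOrbs_46 i (by omega) (by omega)
              ·
                exact allRange_spec checkOrbs_47 i (by omega) (by omega)
          ·
            rcases Nat.lt_or_ge i 51200 with h | h
            ·
              rcases Nat.lt_or_ge i 50176 with h | h
              ·
                exact allRange_spec checkOrbs_48 i (by omega) (by omega)
              ·
                exact allRange_spec checkOrbs_49 i (by omega) (by omega)
            ·
              rcases Nat.lt_or_ge i 52224 with h | h
              ·
                exact allRange_spec checkOrbs_50 i (by omega) (by omega)
              ·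
                exact allRange_spec checkOrbs_51 i (by omega) (by omega)
        ·
          rcases Nat.lt_or_ge i 57344 with h | h
          ·
            rcases Nat.lt_or_ge i 55296 with h | h
            ·
              rcases Nat.lt_or_ge i 54272 with h | h
              ·
                exact allRange_spec checkOrbs_52 i (by omega) (by omega)
              ·
                exact allRange_spec checkOrbs_53 i (by omega) (by omega)
            ·
              rcases Nat.lt_or_ge i 56320 with h | h
              ·
                exact allRange_spec checkOrbs_54 i (by omega) (by omega)
              ·
                exact allRange_spec checkOrbs_55 i (by omega) (by omega)
          ·
            rcases Nat.lt_or_ge i 59392 with h | h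
            ·
              rcases Nat.lt_or_ge i 58368 with h | h
              ·
                exact allRange_spec checkOrbs_56 i (by omega) (by omega)
              ·
                exact allRange_spec checkOrbs_57 i (by omega) (by omega)
            ·
              rcases Nat.lt_or_ge i 60416 with h | h
              ·
                exact allRange_spec checkOrbs_58 i (by omega) (by omega)
              ·
                exact allRange_spec checkOrbs_59 i (by omega) (by omega)
  ·
    rcases Nat.lt_or_ge i 92160 with h | h
    ·
      rcases Nat.lt_or_ge i 76800 with h | h
      ·
        rcases Nat.lt_or_ge i 68608 with h | h
        ·
          rcases Nat.lt_or_ge i 64512 with h | h
          ·
            rcases Nat.lt_or_ge i 62464 with h | h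
            ·
              exact allRange_spec checkOrbs_60 i (by omega) (by omega)
            ·
              rcases Nat.lt_or_ge i 63488 with h | h
              ·
                exact allRange_spec checkOrbs_61 i (by omega) (by omega)
              ·
                exact allRange_spec checkOrbs_62 i (by omega) (by omega)
          ·
            rcases Nat.lt_or_ge i 66560 with h | h
            ·
              rcases Nat.lt_or_ge i 65536 with h | h
              ·
                exact allRange_spec checkOrbs_63 i (by omega) (by omega)
              ·
                exact allRange_spec checkOrbs_64 i (by omega) (by omega)
            ·
              rcases Nat.lt_or_ge i 67584 with h | h
              ·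
                exact allRange_spec checkOrbs_65 i (by omega) (by omega)
              ·
                exact allRange_spec checkOrbs_66 i (by omega) (by omega)
        ·
          rcases Nat.lt_or_ge i 72704 with h | h
          ·
            rcases Nat.lt_or_ge i 70656 with h | h
            ·
              rcases Nat.lt_or_ge i 69632 with h | h
              ·
                exact allRange_spec checkOrbs_67 i (by omega) (by omega)
              ·
                exact allRange_spec checkOrbs_68 i (by omega) (by omega)
            ·
              rcases Nat.lt_or_ge i 71680 with h | h
              ·
                exact allRange_spec checkOrbs_69 i (by omega) (by omega)
              ·
                exact allRange_spec checkOrbs_70 i (by omega) (by omega)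
          ·
            rcases Nat.lt_or_ge i 74752 with h | h
            ·
              rcases Nat.lt_or_ge i 73728 with h | h
              ·
                exact allRange_spec checkOrbs_71 i (by omega) (by omega)
              ·
                exact allRange_spec checkOrbs_72 i (by omega) (by omega)
            ·
              rcases Nat.lt_or_ge i 75776 with h | h
              ·
                exact allRange_spec checkOrbs_73 i (by omega) (by omega)
              ·
                exact allRange_spec checkOrbs_74 i (by omega) (by omega)
      ·
        rcases Nat.lt_or_ge i 83968 with h | h
        ·
          rcases Nat.lt_or_ge i 79872 with h | h
          ·
            rcases Nat.lt_or_ge i 77824 with h | h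
            ·
              exact allRange_spec checkOrbs_75 i (by omega) (by omega)
            ·
              rcases Nat.lt_or_ge i 78848 with h | h
              ·
                exact allRange_spec checkOrbs_76 i (by omega) (by omega)
              ·
                exact allRange_spec checkOrbs_77 i (by omega) (by omega)
          ·
            rcases Nat.lt_or_ge i 81920 with h | h
            ·
              rcases Nat.lt_or_ge i 80896 with h | h
              ·
                exact allRange_spec checkOrbs_78 i (by omega) (by omega)
              ·
                exact allRange_spec checkOrbs_79 i (by omega) (by omega)
            ·
              rcases Nat.lt_or_ge i 82944 with h | h
              ·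
                exact allRange_spec checkOrbs_80 i (by omega) (by omega)
              ·
                exact allRange_spec checkOrbs_81 i (by omega) (by omega)
        ·
          rcases Nat.lt_or_ge i 88064 with h | h
          ·
            rcases Nat.lt_or_ge i 86016 with h | h
            ·
              rcases Nat.lt_or_ge i 84992 with h | h
              ·
                exact allRange_spec checkOrbs_82 i (by omega) (by omega)
              ·
                exact allRange_spec checkOrbs_83 i (by omega) (by omega)
            ·
              rcases Nat.lt_or_ge i 87040 with h | h
              ·
                exact allRange_spec checkOrbs_84 i (by omega) (by omega)
              ·
                exact allRange_spec checkOrbs_85 i (by omega) (by omega)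
          ·
            rcases Nat.lt_or_ge i 90112 with h | h
            ·
              rcases Nat.lt_or_ge i 89088 with h | h
              ·
                exact allRange_spec checkOrbs_86 i (by omega) (by omega)
              ·
                exact allRange_spec checkOrbs_87 i (by omega) (by omega)
            ·
              rcases Nat.lt_or_ge i 91136 with h | h
              ·
                exact allRange_spec checkOrbs_88 i (by omega) (by omega)
              ·
                exact allRange_spec checkOrbs_89 i (by omega) (by omega)
    ·
      rcases Nat.lt_or_ge i 107520 with h | h
      ·
        rcases Nat.lt_or_ge i 99328 with h | h
        ·
          rcases Nat.lt_or_ge i 95232 with h | h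
          ·
            rcases Nat.lt_or_ge i 93184 with h | h
            ·
              exact allRange_spec checkOrbs_90 i (by omega) (by omega)
            ·
              rcases Nat.lt_or_ge i 94208 with h | h
              ·
                exact allRange_spec checkOrbs_91 i (by omega) (by omega)
              ·
                exact allRange_spec checkOrbs_92 i (by omega) (by omega)
          ·
            rcases Nat.lt_or_ge i 97280 with h | h
            ·
              rcases Nat.lt_or_ge i 96256 with h | h
              ·
                exact allRange_spec checkOrbs_93 i (by omega) (by omega)
              ·
                exact allRange_spec checkOrbs_94 i (by omega) (by omega)
            ·
              rcases Nat.lt_or_ge i 98304 with h | h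
              ·
                exact allRange_spec checkOrbs_95 i (by omega) (by omega)
              ·
                exact allRange_spec checkOrbs_96 i (by omega) (by omega)
        ·
          rcases Nat.lt_or_ge i 103424 with h | h
          ·
            rcases Nat.lt_or_ge i 101376 with h | h
            ·
              rcases Nat.lt_or_ge i 100352 with h | h
              ·
                exact allRange_spec checkOrbs_97 i (by omega) (by omega)
              ·
                exact allRange_spec checkOrbs_98 i (by omega) (by omega)
            ·
              rcases Nat.lt_or_ge i 102400 with h | h
              ·
                exact allRange_spec checkOrbs_99 i (by omega) (by omega)
              ·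
                exact allRange_spec checkOrbs_100 i (by omega) (by omega)
          ·
            rcases Nat.lt_or_ge i 105472 with h | h
            ·
              rcases Nat.lt_or_ge i 104448 with h | h
              ·
                exact allRange_spec checkOrbs_101 i (by omega) (by omega)
              ·
                exact allRange_spec checkOrbs_102 i (by omega) (by omega)
            ·
              rcases Nat.lt_or_ge i 106496 with h | h
              ·
                exact allRange_spec checkOrbs_103 i (by omega) (by omega)
              ·
                exact allRange_spec checkOrbs_104 i (by omega) (by omega)
      ·
        rcases Nat.lt_or_ge i 114688 with h | h
        ·
          rcases Nat.lt_or_ge i 110592 with h | h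
          ·
            rcases Nat.lt_or_ge i 108544 with h | h
            ·
              exact allRange_spec checkOrbs_105 i (by omega) (by omega)
            ·
              rcases Nat.lt_or_ge i 109568 with h | h
              ·
                exact allRange_spec checkOrbs_106 i (by omega) (by omega)
              ·
                exact allRange_spec checkOrbs_107 i (by omega) (by omega)
          ·
            rcases Nat.lt_or_ge i 112640 with h | h
            ·
              rcases Nat.lt_or_ge i 111616 with h | h
              ·
                exact allRange_spec checkOrbs_108 i (by omega) (by omega)
              ·
                exact allRange_spec checkOrbs_109 i (by omega) (by omega)
            ·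
              rcases Nat.lt_or_ge i 113664 with h | h
              ·
                exact allRange_spec checkOrbs_110 i (by omega) (by omega)
              ·
                exact allRange_spec checkOrbs_111 i (by omega) (by omega)
        ·
          rcases Nat.lt_or_ge i 118784 with h | h
          ·
            rcases Nat.lt_or_ge i 116736 with h | h
            ·
              rcases Nat.lt_or_ge i 115712 with h | h
              ·
                exact allRange_spec checkOrbs_112 i (by omega) (by omega)
              ·
                exact allRange_spec checkOrbs_113 i (by omega) (by omega)
            ·
              rcases Nat.lt_or_ge i 117760 with h | h
              ·
                exact allRange_spec checkOrbs_114 i (by omega) (by omega)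
              ·
                exact allRange_spec checkOrbs_115 i (by omega) (by omega)
          ·
            rcases Nat.lt_or_ge i 120832 with h | h
            ·
              rcases Nat.lt_or_ge i 119808 with h | h
              ·
                exact allRange_spec checkOrbs_116 i (by omega) (by omega)
              ·
                exact allRange_spec checkOrbs_117 i (by omega) (by omega)
            ·
              rcases Nat.lt_or_ge i 121856 with h | h
              ·
                exact allRange_spec checkOrbs_118 i (by omega) (by omega)
              ·
                exact allRange_spec checkOrbs_119 i (by omega) (by omega)

end Cfsg.Agent.CosetEnum.ON.Rep
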