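import Cfsg.Agent.SporB.ON.Rep.Defs

set_option autoImplicit false
set_option maxRecDepth 100000

namespace Cfsg.Agent.CosetEnum.ON.Rep

theorem checkOrbs_0 : allRange checkOrb 0 1024 = true := by decide +kernel

theorem checkOrbs_1 : allRange checkOrb 1024 1024 = true := by decide +kernel

theorem checkOrbs_2 : allRange checkOrb 2048 1024 = true := by decide +kernel

theorem checkOrbs_3 : allRange checkOrb 3072 1024 = true := by decide +kernel

theorem checkOrbs_4 : allRange checkOrb 4096 1024 = true := by decide +kernel

theorem checkOrbs_5 : allRange checkOrb 5120 1024 = true := by decide +kernel

theorem checkOrbs_6 : allRange checkOrb 6144 1024 = true := by decide +kernel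

theorem checkOrbs_7 : allRange checkOrb 7168 1024 = true := by decide +kernel

theorem checkOrbs_8 : allRange checkOrb 8192 1024 = true := by decide +kernel

theorem checkOrbs_9 : allRange checkOrb 9216 1024 = true := by decide +kernel

theorem checkOrbs_10 : allRange checkOrb 10240 1024 = true := by decide +kernel

theorem checkOrbs_11 : allRange checkOrb 11264 1024 = true := by decide +kernel

theorem checkOrbs_12 : allRange checkOrb 12288 1024 = true := by decide +kernel

theorem checkOrbs_13 : allRange checkOrb 13312 1024 = true := by decide +kernel

theorem checkOrbs_14 : allRange checkOrb 14336 1024 = true := by decide +kernel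

theorem checkOrbs_15 : allRange checkOrb 15360 1024 = true := by decide +kernel

theorem checkOrbs_16 : allRange checkOrb 16384 1024 = true := by decide +kernel

theorem checkOrbs_17 : allRange checkOrb 17408 1024 = true := by decide +kernel

theorem checkOrbs_18 : allRange checkOrb 18432 1024 = true := by decide +kernel

theorem checkOrbs_19 : allRange checkOrb 19456 1024 = true := by decide +kernel

theorem checkOrbs_20 : allRange checkOrb 20480 1024 = true := by decide +kernel

theorem checkOrbs_21 : allRange checkOrb 21504 1024 = true := by decide +kernel

theorem checkOrbs_22 : allRange checkOrb 22528 1024 = true := by decide +kernel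

theorem checkOrbs_23 : allRange checkOrb 23552 1024 = true := by decide +kernel

theorem checkOrbs_24 : allRange checkOrb 24576 1024 = true := by decide +kernel

theorem checkOrbs_25 : allRange checkOrb 25600 1024 = true := by decide +kernel

theorem checkOrbs_26 : allRange checkOrb 26624 1024 = true := by decide +kernel

theorem checkOrbs_27 : allRange checkOrb 27648 1024 = true := by decide +kernel

theorem checkOrbs_28 : allRange checkOrb 28672 1024 = true := by decide +kernel

theorem checkOrbs_29 : allRange checkOrb 29696 1024 = true := by decide +kernel

end Cfsg.Agent.CosetEnum.ON.Rep
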